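import Mathlib
import Cfsg.Prelude.Def_Classical
import Cfsg.Prelude.Def_LieClassical
import Cfsg.Prelude.Def_ClassicalGeometry
import Cfsg.Agent.Lib.UnitaryEmbed.Realify

/-!
Restriction of scalars for symplectic groups and extension of scalars for elliptic orthogonal
groups, along a quadratic extension of finite fields.
-/

set_option autoImplicit false

namespace CfsgLib.FieldExtEmbed

open Matrix CfsgLib.UnitaryEmbed

section Conj

variable {R : Type*} [CommSemiring R] {n k : Type*} [Fintype n] [DecidableEq n] [Fintype k]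
  [DecidableEq k]

/-- Transport of linear endomorphisms to matrices along a linear equivalence. -/
noncomputable def conjHom {V : Type*} [AddCommMonoid V] [Module R V] (E : (n → R) ≃ₗ[R] V) :
    Module.End R V →* Matrix n n R where
  toFun f := LinearMap.toMatrix' (E.symm.toLinearMap ∘ₗ f ∘ₗ E.toLinearMap)
  map_one' := Matrix.ext_iff_mulVec.2 fun v => by simp [LinearMap.toMatrix'_mulVec]
  map_mul' f g := Matrix.ext_iff_mulVec.2 fun v => by
    simp [LinearMap.toMatrix'_mulVec, ← mulVec_mulVec]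

theorem conjHom_apply {V : Type*} [AddCommMonoid V] [Module R V] (E : (n → R) ≃ₗ[R] V)
    (f : Module.End R V) (v : n → R) : E (conjHom E f *ᵥ v) = f (E v) := by
  simp [conjHom, LinearMap.toMatrix'_mulVec]

theorem conjHom_injective {V : Type*} [AddCommMonoid V] [Module R V] (E : (n → R) ≃ₗ[R] V) :
    Function.Injective (conjHom E) := fun f g h =>
  LinearMap.ext fun w => by
    have := conjHom_apply E f (E.symm w)
    rw [h, conjHom_apply, E.apply_symm_apply] at this
    exact this.symm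

end Conj

variable {K F : Type*} [Field K] [Fintype K] [Field F] [Fintype F] {q : ℕ}

/-- Coordinates of `Sp_{2a}(K)` over the subfield. -/
def resCoord (a : ℕ) (ι : F →+* K) (t s₁ s₂ : K) (e : Fin a ⊕ Fin a ≃ Fin (2 * a))
    (v : Fin (2 * a) ⊕ Fin (2 * a) → F) : Fin a ⊕ Fin a → K :=
  Sum.elim (fun i => ι (v (.inl (e (.inl i)))) + t * ι (v (.inl (e (.inr i)))))
    (fun i => s₁ * ι (v (.inr (e (.inl i)))) + s₂ * ι (v (.inr (e (.inr i)))))

theorem exists_symp_restrict (hK : Fintype.card K = q ^ 2) (hF : Fintype.card F = q) (a : ℕ) :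
    ∃ φ : ↥(Matrix.symplecticGroup (Fin a) K) →*
      ↥(Matrix.symplecticGroup (Fin (2 * a)) F), Function.Injective φ := by
  obtain ⟨ι, -⟩ := exists_ringHom hK hF
  obtain ⟨t, ht⟩ := exists_not_fixed hK hF ι
  obtain ⟨τ, hτ⟩ := exists_frob hF ι
  let := ι.toAlgebra
  have ht' : t - t ^ q ≠ 0 := sub_ne_zero.2 (Ne.symm ht)
  have ht'' : t ^ q - t ≠ 0 := sub_ne_zero.2 ht
  let s₁ : K := -(t ^ q) / (t - t ^ q)
  let s₂ : K := 1 / (t - t ^ q)
  have hs₁ : τ s₁ = -t / (t ^ q - t) := by
    simp only [s₁, map_div₀, map_neg, map_sub]; rw [hτ, hτ, pow_q_q hK]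
  have hs₂ : τ s₂ = 1 / (t ^ q - t) := by
    simp only [s₂, map_div₀, map_one, map_sub]; rw [hτ, hτ, pow_q_q hK]
  let e : Fin a ⊕ Fin a ≃ Fin (2 * a) := finSumFinEquiv.trans (finCongr (two_mul a).symm)
  let E : (Fin (2 * a) ⊕ Fin (2 * a) → F) →ₗ[F] (Fin a ⊕ Fin a → K) :=
    { toFun := resCoord a ι t s₁ s₂ e
      map_add' := fun u v => by funext i; rcases i with i | i <;> simp [resCoord] <;> ring
      map_smul' := fun c v => by
        funext i; rcases i with i | i <;>
          simp [resCoord, Algebra.smul_def, RingHom.algebraMap_toAlgebra] <;> ring }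
  have hτι : ∀ x, τ (ι x) = ι x := fun x => by rw [hτ, iota_pow hF]
  have key : ∀ u v, ι (Cfsg.sympForm (2 * a) F u v) =
      Cfsg.sympForm a K (E u) (E v) + τ (Cfsg.sympForm a K (E u) (E v)) := by
    intro u v
    rw [sympForm_eq, sympForm_eq, ← e.sum_comp, Fintype.sum_sum_type, map_add, map_sum, map_sum,
      map_sum, ← Finset.sum_add_distrib, ← Finset.sum_add_distrib]
    refine Finset.sum_congr rfl fun i _ => ?_
    simp only [E, LinearMap.coe_mk, AddHom.coe_mk, resCoord, Sum.elim_inl, Sum.elim_inr, map_sub,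
      map_mul, map_add, hτι, hs₁, hs₂, hτ t, s₁, s₂]
    field_simp
    ring
  have hEinj : Function.Injective E := by
    refine (injective_iff_map_eq_zero E).2 fun v hv => ?_
    have h0 : ∀ w, Cfsg.sympForm (2 * a) F v w = 0 := fun w => ι.injective (by
      rw [key, hv]; simp [Cfsg.sympForm])
    funext k
    rcases k with i | i
    · simpa [sympForm_eq, Pi.single_apply] using h0 (Pi.single (.inr i) 1)
    · simpa [sympForm_eq, Pi.single_apply] using h0 (Pi.single (.inl i) 1)
  have hEbij : Function.Bijective E := by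
    refine (Fintype.bijective_iff_injective_and_card E).2 ⟨hEinj, ?_⟩
    simp [hK, hF, ← pow_mul]
    ring_nf
  let E' := LinearEquiv.ofBijective E hEbij
  let ψ : Matrix (Fin a ⊕ Fin a) (Fin a ⊕ Fin a) K →*
      Module.End F (Fin a ⊕ Fin a → K) :=
    { toFun := fun M => M.mulVecLin.restrictScalars F
      map_one' := LinearMap.ext fun v => by simp
      map_mul' := fun M N => LinearMap.ext fun v => by simp }
  let Φ := ((conjHom E').comp ψ).comp (Matrix.symplecticGroup (Fin a) K).subtype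
  have hΦ : ∀ g v, E (Φ g *ᵥ v) = g.1 *ᵥ E v := fun g v => conjHom_apply E' (ψ g.1) v
  refine ⟨Φ.codRestrict _ fun g => ?_, fun g h hgh => ?_⟩
  · rw [SymplecticGroup.mem_iff']
    have hp : ∀ x y, Cfsg.sympForm (2 * a) F (Φ g *ᵥ x) (Φ g *ᵥ y) =
        Cfsg.sympForm (2 * a) F x y := by
      intro x y
      apply ι.injective
      rw [key, key, hΦ, hΦ]
      have hg := (SymplecticGroup.mem_iff').1 g.2
      have : Cfsg.sympForm a K (g.1 *ᵥ E x) (g.1 *ᵥ E y) = Cfsg.sympForm a K (E x) (E y) := by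
        conv_rhs => rw [Cfsg.sympForm, ← hg, ← mulVec_mulVec, ← mulVec_mulVec, dotProduct_mulVec,
          vecMul_transpose]
        rfl
      rw [this]
    ext i j
    have h1 := hp (Pi.single i 1) (Pi.single j 1)
    have e' : ∀ (A : Matrix (Fin (2*a) ⊕ Fin (2*a)) (Fin (2*a) ⊕ Fin (2*a)) F) x y,
        (A *ᵥ x) ⬝ᵥ (J (Fin (2*a)) F *ᵥ (A *ᵥ y)) = x ⬝ᵥ ((Aᵀ * J (Fin (2*a)) F * A) *ᵥ y) := by
      intro A x y
      rw [← mulVec_mulVec, ← mulVec_mulVec, dotProduct_mulVec x Aᵀ, vecMul_transpose]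
    simp only [Cfsg.sympForm] at h1
    rw [e'] at h1
    simpa [mulVec_single_one] using h1
  · have h2 : ψ g.1 = ψ h.1 := conjHom_injective E' (congrArg Subtype.val hgh)
    exact Subtype.ext (Matrix.ext_iff_mulVec.2 fun w => LinearMap.congr_fun h2 w)

theorem exists_minus_to_plus (hF : Fintype.card F = q) (hK : Fintype.card K = q ^ 2) {m : ℕ}
    (hm : 1 ≤ m) (a c : F)
    (hac : ∀ z₁ z₂ : F, z₁ ^ 2 + a * z₁ * z₂ + c * z₂ ^ 2 = 0 → z₁ = 0 ∧ z₂ = 0) :
    ∃ φ : ↥(Cfsg.isometryGroup F (Cfsg.quadFormMinus (m - 1) F a c)) →*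
      ↥(Cfsg.isometryGroup K (Cfsg.quadFormPlus m K)), Function.Injective φ := by
  obtain ⟨n, rfl⟩ : ∃ n, m = n + 1 := ⟨m - 1, by omega⟩
  rw [show n + 1 - 1 = n from rfl]
  obtain ⟨ι, -⟩ := exists_ringHom hK hF
  obtain ⟨θ, hθ, hsum, hprod⟩ := exists_quadratic_root hK hF ι a c hac
  let QK := Cfsg.quadFormMinus n K (ι a) (ι c)
  let T : (Fin (n + 1) ⊕ Fin (n + 1) → K) →ₗ[K] ((Fin n ⊕ Fin n) ⊕ Fin 2 → K) :=
    { toFun := fun w => Sum.elim (Sum.elim (fun i => w (.inl i.castSucc)) fun i =>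
          w (.inr i.castSucc))
        ![(θ ^ q * w (.inl (Fin.last n)) - θ * w (.inr (Fin.last n))) / (θ ^ q - θ),
          (w (.inr (Fin.last n)) - w (.inl (Fin.last n))) / (θ ^ q - θ)]
      map_add' := fun u v => by
        funext k; rcases k with (i | i) | j <;> try simp
        fin_cases j <;> simp <;> ring
      map_smul' := fun r v => by
        funext k; rcases k with (i | i) | j <;> try simp
        fin_cases j <;> simp <;> ring }
  have hθ' : θ ^ q - θ ≠ 0 := sub_ne_zero.2 hθ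
  have hQT : ∀ w, QK (T w) = Cfsg.quadFormPlus (n + 1) K w := by
    intro w
    simp only [QK, T, Cfsg.quadFormMinus, Cfsg.quadFormPlus, Fin.sum_univ_castSucc]
    simp [← hsum, ← hprod]
    field_simp
    ring
  have hTinj : Function.Injective T := by
    refine (injective_iff_map_eq_zero T).2 fun w hw => ?_
    have hl : ∀ i : Fin n, w (.inl i.castSucc) = 0 ∧ w (.inr i.castSucc) = 0 := fun i =>
      ⟨congrFun hw (.inl (.inl i)), congrFun hw (.inl (.inr i))⟩
    have h1 : (w (.inr (Fin.last n)) - w (.inl (Fin.last n))) / (θ ^ q - θ) = 0 :=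
      congrFun hw (.inr 1)
    have h0 : (θ ^ q * w (.inl (Fin.last n)) - θ * w (.inr (Fin.last n))) / (θ ^ q - θ) = 0 :=
      congrFun hw (.inr 0)
    rw [div_eq_zero_iff, or_iff_left hθ', sub_eq_zero] at h1 h0
    rw [h1] at h0
    have hL : w (.inl (Fin.last n)) = 0 := by
      have : (θ ^ q - θ) * w (.inl (Fin.last n)) = 0 := by rw [sub_mul, h0, sub_self]
      exact (mul_eq_zero.1 this).resolve_left hθ'
    funext k
    rcases k with i | i <;> induction i using Fin.lastCases
    · exact hL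
    · exact (hl _).1
    · rw [h1]; exact hL
    · exact (hl _).2
  have hTbij : Function.Bijective T := by
    refine (Fintype.bijective_iff_injective_and_card T).2 ⟨hTinj, ?_⟩
    simp [← two_mul, mul_add]
  let T' := LinearEquiv.ofBijective T hTbij
  let Φ : GL ((Fin n ⊕ Fin n) ⊕ Fin 2) F →* GL (Fin (n + 1) ⊕ Fin (n + 1)) K :=
    Units.map ((conjHom T').comp
      ((Matrix.toLinAlgEquiv'.toRingEquiv.toRingHom.toMonoidHom).comp
        (RingHom.mapMatrix ι).toMonoidHom))
  have hΦ : ∀ g w, T ((Φ g : Matrix _ _ K) *ᵥ w) =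
      ((g : Matrix ((Fin n ⊕ Fin n) ⊕ Fin 2) _ F).map ι) *ᵥ T w := fun g w =>
    (conjHom_apply T' _ w).trans (by simp [T'])
  obtain ⟨t, ht⟩ := exists_not_fixed hK hF ι
  have hdec : ∀ x : K, ∃ r s : F, x = ι r + t * ι s := by
    have hinj : Function.Injective fun p : F × F => ι p.1 + t * ι p.2 := by
      intro p p' h
      simp only at h
      by_cases h2 : p.2 = p'.2
      · rw [h2] at h; exact Prod.ext (ι.injective (add_right_cancel h)) h2
      · exfalso
        apply ht
        have hne : ι p.2 - ι p'.2 ≠ 0 := sub_ne_zero.2 fun e => h2 (ι.injective e)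
        have : t = ι ((p'.1 - p.1) / (p.2 - p'.2)) := by
          rw [map_div₀, map_sub, map_sub, eq_div_iff hne]; linear_combination h
        rw [this, iota_pow hF]
    have hbij := (Fintype.bijective_iff_injective_and_card _).2
      ⟨hinj, by simp [hK, hF, sq]⟩
    intro x
    obtain ⟨p, rfl⟩ := hbij.2 x
    exact ⟨p.1, p.2, rfl⟩
  have hext : ∀ r s : (Fin n ⊕ Fin n) ⊕ Fin 2 → F, QK (fun k => ι (r k) + t * ι (s k)) =
      ι (Cfsg.quadFormMinus n F a c r) + t * ι (Cfsg.quadFormMinus n F a c (r + s) -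
        Cfsg.quadFormMinus n F a c r - Cfsg.quadFormMinus n F a c s) +
        t ^ 2 * ι (Cfsg.quadFormMinus n F a c s) := by
    intro r s
    simp [QK, Cfsg.quadFormMinus, Finset.mul_sum, mul_add, add_mul, Finset.sum_add_distrib,
      mul_sub]
    have : ∀ f g : Fin n → K, (∀ i, f i = g i) → ∑ i, f i = ∑ i, g i := fun f g h =>
      Finset.sum_congr rfl fun i _ => h i
    rw [this (fun i => t * ι (s (.inl (.inl i))) * (t * ι (s (.inl (.inr i)))))
      (fun i => t ^ 2 * (ι (s (.inl (.inl i))) * ι (s (.inl (.inr i))))) fun i => by ring,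
      this (fun i => t * ι (s (.inl (.inl i))) * ι (r (.inl (.inr i))))
      (fun i => t * (ι (s (.inl (.inl i))) * ι (r (.inl (.inr i))))) fun i => by ring,
      this (fun i => ι (r (.inl (.inl i))) * (t * ι (s (.inl (.inr i)))))
      (fun i => t * (ι (r (.inl (.inl i))) * ι (s (.inl (.inr i))))) fun i => by ring]
    ring
  have hmem : ∀ g : ↥(Cfsg.isometryGroup F (Cfsg.quadFormMinus n F a c)),
      Φ g.1 ∈ Cfsg.isometryGroup K (Cfsg.quadFormPlus (n + 1) K) := by
    intro g
    intro w w'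
    change Cfsg.quadFormPlus (n + 1) K ((Φ g.1 : Matrix _ _ K) *ᵥ w) = _
    beta_reduce
    rw [← hQT, hΦ, ← hQT]
    choose r s hrs using fun k => hdec (T w k)
    rw [show T w = fun k => ι (r k) + t * ι (s k) from funext hrs]
    have hg : ∀ v, Cfsg.quadFormMinus n F a c ((Units.val g.1) *ᵥ v) =
        Cfsg.quadFormMinus n F a c v := fun v => g.2 v v
    have : ((Units.val g.1).map ι) *ᵥ (fun k => ι (r k) + t * ι (s k)) =
        fun k => ι (((Units.val g.1) *ᵥ r) k) + t * ι (((Units.val g.1) *ᵥ s) k) := by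
      funext k
      simp [mulVec, dotProduct, mul_add, Finset.sum_add_distrib, Finset.mul_sum, mul_left_comm]
    rw [this, hext, hext, ← mulVec_add, hg, hg, hg]
  refine ⟨(Φ.comp (Cfsg.isometryGroup F _).subtype).codRestrict _ hmem, fun g h hgh => ?_⟩
  have h1 : (Units.val g.1).map ι = (Units.val h.1).map ι := by
    refine Matrix.ext_iff_mulVec.2 fun v => ?_
    obtain ⟨w, rfl⟩ := hTbij.2 v
    rw [← hΦ, ← hΦ]
    exact congrArg (fun x : GL (Fin (n + 1) ⊕ Fin (n + 1)) K => T ((x : Matrix _ _ K) *ᵥ w))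
      (congrArg Subtype.val hgh)
  exact Subtype.ext (Units.ext (Matrix.map_injective ι.injective h1))

end CfsgLib.FieldExtEmbed
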